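import Groth.Agent.H14Count.TwistPoints
import Groth.Agent.H20Borel.CartanBorel
import Groth.Agent.H19Grp.Transporter
import Groth.Prelude.Def_GalTw2

/-!
# Descent of a reduced closed subgroup stable under a semilinear automorphism

Let `K/k` be a field extension with `K` algebraically closed and `π` a `k`-automorphism of `K` whose fixed field
is `k`. A reduced closed subgroup of `G_K` whose group of points is stable under `π` is defined over `k`.
-/

set_option autoImplicit false
set_option linter.style.haveILetI false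
set_option linter.unusedSectionVars false
set_option backward.isDefEq.respectTransparency false
set_option maxHeartbeats 1000000
set_option synthInstance.maxHeartbeats 200000

universe u

open CategoryTheory CategoryTheory.Limits MonoidalCategory CartesianMonoidalCategory MonObj AlgebraicGeometry GalTw
open Groth.Agent.H27Witt Groth.Agent.H14Count

noncomputable section

namespace Groth.Agent.H19Fin

section Semilinear

variable {k K : Type u} [Field k] [Field K] [Algebra k K]

/-- A semilinearly stable system of linear relations is spanned by its invariant members. -/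
theorem semilinear_vanish (π : K →+* K) (hfix : ∀ c, π c = c → c ∈ Set.range (algebraMap k K))
    {P κ : Type*} [Fintype κ] {V : Type*} [AddCommGroup V] [Module K V] (ev : P → κ → K) (Φ : κ → V)
    (hsurj : ∀ y, ∃ y', ∀ i, ev y i = π (ev y' i))
    (h0 : ∀ c : κ → k, (∀ y, ∑ i, algebraMap k K (c i) * ev y i = 0) → ∑ i, algebraMap k K (c i) • Φ i = 0)
    (c : κ → K) (hc : ∀ y, ∑ i, c i * ev y i = 0) : ∑ i, c i • Φ i = 0 := by
  classical
  generalize hn : (Finset.univ.filter fun i => c i ≠ 0).card = n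
  induction n using Nat.strong_induction_on generalizing c with
  | _ n ih =>
    by_cases hz : ∀ i, c i = 0
    · simp [hz]
    push Not at hz
    obtain ⟨i₀, hi₀⟩ := hz
    let c₁ : κ → K := fun i => (c i₀)⁻¹ * c i
    have hc₁ : ∀ y, ∑ i, c₁ i * ev y i = 0 := fun y => by
      simp [c₁, _root_.mul_assoc, ← Finset.mul_sum, hc y]
    suffices h : ∑ i, c₁ i • Φ i = 0 by
      have : (c i₀)⁻¹ • ∑ i, c i • Φ i = 0 := by simpa [c₁, Finset.smul_sum, smul_smul] using h
      exact (smul_eq_zero.mp this).resolve_left (inv_ne_zero hi₀)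
    let d : κ → K := fun i => π (c₁ i) - c₁ i
    have hd0 : d i₀ = 0 := by simp [d, c₁, hi₀]
    have hsupp : ∀ i, c i = 0 → c₁ i = 0 ∧ d i = 0 := fun i hi => by simp [d, c₁, hi]
    have key : ∀ (e : κ → K) (i₁ : κ), c i₁ ≠ 0 → e i₁ = 0 → (∀ i, c i = 0 → e i = 0) →
        (∀ y, ∑ i, e i * ev y i = 0) → ∑ i, e i • Φ i = 0 := by
      intro e i₁ hci₁ hei₁ hes hey
      refine ih _ ?_ e hey rfl
      rw [← hn]
      refine Finset.card_lt_card ((Finset.ssubset_iff_of_subset ?_).mpr ⟨i₁, by simp [hci₁], by simp [hei₁]⟩)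
      intro i
      simp only [Finset.mem_filter, Finset.mem_univ, true_and]
      exact fun h h' => h (hes i h')
    have hd : ∀ y, ∑ i, d i * ev y i = 0 := fun y => by
      obtain ⟨y', hy'⟩ := hsurj y
      have h1 : ∑ i, π (c₁ i) * ev y i = 0 := by
        have := congrArg π (hc₁ y')
        simpa [map_sum, map_mul, ← hy'] using this
      simp [d, sub_mul, Finset.sum_sub_distrib, h1, hc₁ y]
    have hdΦ : ∑ i, d i • Φ i = 0 := key d i₀ hi₀ hd0 (fun i hi => (hsupp i hi).2) hd
    by_cases hdz : ∀ i, d i = 0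
    · choose a ha using fun i => hfix (c₁ i) (sub_eq_zero.mp (hdz i))
      have e : c₁ = fun i => algebraMap k K (a i) := funext fun i => (ha i).symm
      rw [e] at hc₁ ⊢
      exact h0 a hc₁
    push Not at hdz
    obtain ⟨i₁, hi₁⟩ := hdz
    let e : κ → K := fun i => c₁ i - c₁ i₁ / d i₁ * d i
    have he : ∑ i, e i • Φ i = 0 := key e i₁ (fun h => hi₁ (hsupp i₁ h).2) (by simp [e, hi₁])
      (fun i hi => by simp [e, hsupp i hi]) fun y => by
        simp [e, sub_mul, Finset.sum_sub_distrib, hc₁ y, _root_.mul_assoc, ← Finset.mul_sum, hd y]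
    simpa [e, sub_smul, Finset.sum_sub_distrib, mul_smul, ← Finset.smul_sum, hdΦ] using he

end Semilinear

section Functions

variable {k : Type u} [Field k] {K : Type u} [Field K] [Algebra k K] {X Y : Over (Sk k)}

/-- Functions pulled back to the base change. -/
def bcFn (X : Over (Sk k)) : Fn X →+* Fn (bcK K X) :=
  (pullback.fst X.hom (SGA7.pt (K := k) K).hom).appTop.hom

theorem struct_bcK (X : Over (Sk k)) (c : k) :
    bcFn X (algebraMap k (Fn X) c) = algebraMap K (Fn (bcK K X)) (algebraMap k K c) := by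
  change (X.hom.appTop ≫ (pullback.fst X.hom (SGA7.pt (K := k) K).hom).appTop).hom
      ((Scheme.ΓSpecIso (CommRingCat.of k)).inv.hom c) =
    (pullback.snd X.hom (SGA7.pt (K := k) K).hom).appTop.hom
      ((Scheme.ΓSpecIso (CommRingCat.of K)).inv.hom (algebraMap k K c))
  rw [← Scheme.Hom.comp_appTop, pullback.condition, Scheme.Hom.comp_appTop]
  exact congrArg _ (congr($(Scheme.ΓSpecIso_inv_naturality (CommRingCat.ofHom (algebraMap k K))).hom c)).symm

theorem pull_bcHom (f : X ⟶ Y) (a : Fn Y) :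
    Fn.pull (H26Base.GalTwist.bcHom (K := K) f) (bcFn Y a) = bcFn X (Fn.pull f a) := by
  change ((pullback.fst Y.hom (SGA7.pt (K := k) K).hom).appTop ≫
      (H26Base.GalTwist.bcHom (K := K) f).left.appTop).hom a =
    (f.left.appTop ≫ (pullback.fst X.hom (SGA7.pt (K := k) K).hom).appTop).hom a
  rw [← Scheme.Hom.comp_appTop, H26Base.GalTwist.bcHom_fst, Scheme.Hom.comp_appTop]
  rfl

/-- Functions on a base change are combinations of pulled back functions. -/
theorem exists_bc_decomp [IsAffine X.left] (f : Fn (bcK K X)) :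
    ∃ (n : ℕ) (c : Fin n → K) (a : Fin n → Fn X), f = ∑ i, c i • bcFn X (a i) := by
  let Y : Over (Sk k) := Over.mk (Spec.map (CommRingCat.ofHom (algebraMap k K)))
  haveI : IsAffine Y.left := inferInstanceAs (IsAffine (Spec _))
  obtain ⟨n, a, b, h⟩ := Fn.exists_decomp (X := X) (Y := Y) f
  refine ⟨n, fun i => (Scheme.ΓSpecIso (CommRingCat.of K)).hom.hom (b i), a, ?_⟩
  have hterm : ∀ i, (Scheme.ΓSpecIso (CommRingCat.of K)).hom.hom (b i) • bcFn (K := K) X (a i) =
      (Fn.pull (fst X Y) (a i) * Fn.pull (snd X Y) (b i) : Fn (X ⊗ Y)) := fun i => by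
    rw [Algebra.smul_def, mul_comm]
    refine congrArg (bcFn (K := K) X (a i) * ·) ?_
    change (pullback.snd X.hom (SGA7.pt (K := k) K).hom).appTop.hom
      ((Scheme.ΓSpecIso (CommRingCat.of K)).inv.hom ((Scheme.ΓSpecIso (CommRingCat.of K)).hom.hom (b i))) = _
    rw [show (Scheme.ΓSpecIso (CommRingCat.of K)).inv.hom ((Scheme.ΓSpecIso (CommRingCat.of K)).hom.hom (b i)) = b i
      from congr($((Scheme.ΓSpecIso (CommRingCat.of K)).hom_inv_id).hom (b i))]
    rfl
  refine h.trans (Eq.symm ?_)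
  exact Finset.sum_congr rfl fun i _ => hterm i

/-- The value of a function at a point over `K`. -/
def ptVal (x : SGA7.Pts K X) : Fn X →+* K :=
  (gamma K).comp x.left.appTop.hom

theorem ptVal_smul (σ : K ≃ₐ[k] K) (x : SGA7.Pts K X) (a : Fn X) : ptVal (σ • x) a = σ (ptVal x a) := by
  have h1 : ∀ v : Γ(Spec (CommRingCat.of K), ⊤), (Scheme.ΓSpecIso (CommRingCat.of K)).hom.hom
      ((specMap K σ).appTop.hom v) = σ ((Scheme.ΓSpecIso (CommRingCat.of K)).hom.hom v) := fun v =>
    congr($(Scheme.ΓSpecIso_naturality (CommRingCat.ofHom (σ : K →+* K))).hom v)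
  exact h1 _

theorem val_bcFn {T : Over (Sk K)} (i : T ⟶ bcK K X) (t : 𝟙_ (Over (Sk K)) ⟶ T) (a : Fn X) :
    H20Mu.val t (Fn.pull i (bcFn X a)) = ptVal (secPt (t ≫ i)) a := by
  change gamma K (((pullback.fst X.hom (SGA7.pt (K := k) K).hom).appTop ≫ i.left.appTop ≫ t.left.appTop).hom a) = _
  rw [← Scheme.Hom.comp_appTop, ← Scheme.Hom.comp_appTop]
  rfl

theorem algebraMap_smul_bcFn (X : Over (Sk k)) (c : k) (a : Fn X) :
    algebraMap k K c • bcFn (K := K) X a = bcFn X (c • a) := by
  rw [Algebra.smul_def, Algebra.smul_def, map_mul, struct_bcK]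

/-- A morphism to the affine base change is determined by the pulled back functions. -/
theorem sum_smul_bcFn {n : ℕ} (c : Fin n → k) (a : Fin n → Fn X) :
    ∑ i, algebraMap k K (c i) • bcFn (K := K) X (a i) = bcFn X (∑ i, c i • a i) := by
  rw [map_sum]
  exact Finset.sum_congr rfl fun i _ => algebraMap_smul_bcFn X (c i) (a i)

end Functions

section Descent

attribute [local instance 2000] Hom.group Hom.monoid

variable {k : Type u} [Field k] {K : Type u} [Field K] [Algebra k K] [IsAlgClosed K]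
  (G : Over (Sk k)) [GrpObj G] [IsAffine G.left] [LocallyOfFiniteType G.hom]

/-- **Descent of a reduced closed subgroup.** -/
theorem exists_descent (π : K ≃ₐ[k] K) (hfix : ∀ c, π c = c → c ∈ Set.range (algebraMap k K))
    {T : Over (Sk K)} [GrpObj T] (iT : T ⟶ bcK K G) [IsMonHom iT] [IsClosedImmersion iT.left]
    [AlgebraicGeometry.IsReduced T.left]
    (hπ : ∀ t : 𝟙_ (Over (Sk K)) ⟶ T, ∃ t', π • secPt (t' ≫ iT) = secPt (t ≫ iT)) :
    ∃ (T₀ : Over (Sk k)) (_ : GrpObj T₀) (i₀ : T₀ ⟶ G) (e : bcK K T₀ ≅ T),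
      IsMonHom i₀ ∧ IsClosedImmersion i₀.left ∧ IsMonHom e.hom ∧ e.hom ≫ iT = H26Base.GalTwist.bcHom i₀ := by
  let z := (SGA7.pt (K := k) K).hom
  haveI : IsAffine (bcK K G).left := H20Borel.isAffine_bc z G
  haveI : IsAffine T.left := isAffine_of_isAffineHom iT.left
  haveI : LocallyOfFiniteType (bcK K G).hom := inferInstanceAs (LocallyOfFiniteType (pullback.snd G.hom z))
  haveI : LocallyOfFiniteType T.hom := by rw [← Over.w iT]; infer_instance
  haveI : Mono iT := Over.mono_of_mono_left _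
  let m : (Over.map z).obj T ⟶ G := Over.homMk (iT.left ≫ pullback.fst G.hom z) (by
    show (iT.left ≫ pullback.fst G.hom z) ≫ G.hom = T.hom ≫ z
    rw [Category.assoc, pullback.condition, ← Category.assoc]
    exact congrArg (· ≫ z) (Over.w iT))
  have hm : ∀ a, (Fn.pull m a : Γ(T.left, ⊤)) = Fn.pull iT (bcFn G a) := fun a => by
    change (iT.left ≫ pullback.fst G.hom z).appTop.hom a = _
    rw [Scheme.Hom.comp_appTop]
    rfl
  let J : Ideal (Fn G) := RingHom.ker (Fn.pull m)
  let A := Fn G ⧸ J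
  let T₀ : Over (Sk k) := Over.mk (Spec.map (CommRingCat.ofHom (algebraMap k A)))
  let eA := Fn.specAlg (k := k) A
  haveI : IsAffine T₀.left := inferInstanceAs (IsAffine (Spec _))
  obtain ⟨i₀, hi₀⟩ := Fn.exists_hom (X := T₀) (Y := G) (eA.toAlgHom.comp (Ideal.Quotient.mkₐ k J))
  haveI hci : IsClosedImmersion i₀.left := IsClosedImmersion.of_surjective_of_isAffine _
    ((congrArg (fun f : Fn G →ₐ[k] Fn T₀ => Function.Surjective f) hi₀).mpr
      (eA.surjective.comp Ideal.Quotient.mk_surjective))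
  haveI : Mono i₀ := Over.mono_of_mono_left _
  -- the torus lands in the base change of the closed subscheme
  obtain ⟨m', hm'⟩ := Fn.exists_hom (X := (Over.map z).obj T) (Y := T₀)
    ((Ideal.Quotient.liftₐ J (Fn.pull m) fun a ha => ha).comp eA.symm.toAlgHom)
  have hmi : m' ≫ i₀ = m := by
    refine Fn.hom_ext ?_
    rw [Fn.pull_comp, hm', hi₀]
    refine AlgHom.ext fun a => ?_
    exact (congrArg (Ideal.Quotient.liftₐ J (Fn.pull m) fun a ha => ha)
      (eA.symm_apply_apply (Ideal.Quotient.mk J a))).trans rfl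
  let f₁ : T ⟶ bcK K T₀ := Over.homMk (pullback.lift m'.left T.hom (Over.w m')) (pullback.lift_snd _ _ _)
  have hf₁ : f₁ ≫ H26Base.GalTwist.bcHom i₀ = iT := by
    refine Over.OverMorphism.ext (pullback.hom_ext ?_ ?_)
    · rw [Over.comp_left, Category.assoc, H26Base.GalTwist.bcHom_fst, ← Category.assoc]
      erw [pullback.lift_fst]
      exact congrArg CommaMorphism.left hmi
    · rw [Over.comp_left, Category.assoc, H26Base.GalTwist.bcHom_snd]
      erw [pullback.lift_snd]
      exact (Over.w iT).symm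
  -- conversely
  haveI : IsAffine (bcK K T₀).left := H20Borel.isAffine_bc z T₀
  have hker : ∀ f : Fn (bcK K G), Fn.pull iT f = 0 → Fn.pull (H26Base.GalTwist.bcHom (K := K) i₀) f = 0 := by
    intro f hf
    obtain ⟨n, c, a, rfl⟩ := exists_bc_decomp f
    simp only [map_sum, map_smul, pull_bcHom]
    refine semilinear_vanish (π : K →+* K) hfix (fun (t : 𝟙_ (Over (Sk K)) ⟶ T) i => ptVal (secPt (t ≫ iT)) (a i))
      (fun i => bcFn T₀ (Fn.pull i₀ (a i))) (fun t => ?_) (fun d hd => ?_) c fun t => ?_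
    · obtain ⟨t', ht'⟩ := hπ t
      exact ⟨t', fun i => by rw [← ht', ptVal_smul]; rfl⟩
    · rw [sum_smul_bcFn]
      suffices h : Fn.pull m (∑ i, d i • a i) = 0 by
        have h2 : Fn.pull i₀ (∑ i, d i • a i) = 0 := by
          rw [hi₀, AlgHom.comp_apply]
          exact (map_eq_zero_iff eA.toAlgHom eA.injective).mpr (Ideal.Quotient.eq_zero_iff_mem.mpr h)
        have h3 : ∑ i, d i • Fn.pull i₀ (a i) = 0 := by simpa [map_sum, map_smul] using h2
        rw [h3, map_zero]
      refine (hm _).trans (H20Borel.ext_points_reduced fun t => ?_)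
      rw [← sum_smul_bcFn, map_sum, map_sum]
      refine Eq.trans (Finset.sum_congr rfl fun i _ => ?_) ((hd t).trans (map_zero _).symm)
      rw [map_smul, map_smul, val_bcFn, smul_eq_mul]
    · have h := congrArg (H20Mu.val t) hf
      simpa [map_sum, map_smul, val_bcFn, map_zero] using h
  have hsurj : Function.Surjective (Fn.pull iT : Fn (bcK K G) →ₐ[K] Fn T) :=
    (IsClosedImmersion.isAffine_surjective_of_isAffine iT.left).2
  obtain ⟨f₂, hf₂'⟩ := Fn.exists_hom (X := bcK K T₀) (Y := T)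
    ((Ideal.Quotient.liftₐ (RingHom.ker (Fn.pull iT)) (Fn.pull (H26Base.GalTwist.bcHom (K := K) i₀)) hker).comp
      (Ideal.quotientKerAlgEquivOfSurjective hsurj).symm.toAlgHom)
  have hf₂ : f₂ ≫ iT = H26Base.GalTwist.bcHom i₀ := by
    refine Fn.hom_ext (AlgHom.ext fun r => ?_)
    rw [Fn.pull_comp, AlgHom.comp_apply, hf₂']
    show (Ideal.Quotient.liftₐ _ _ hker) ((Ideal.quotientKerAlgEquivOfSurjective hsurj).symm (Fn.pull iT r)) = _
    rw [show (Ideal.quotientKerAlgEquivOfSurjective hsurj).symm (Fn.pull iT r) = Ideal.Quotient.mk _ r from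
      (AlgEquiv.symm_apply_eq _).mpr rfl]
    rfl
  haveI : Mono (H26Base.GalTwist.bcHom (K := K) i₀) := inferInstanceAs (Mono ((Over.pullback z).map i₀))
  let e : bcK K T₀ ≅ T :=
    { hom := f₂
      inv := f₁
      hom_inv_id := (cancel_mono (H26Base.GalTwist.bcHom (K := K) i₀)).mp (by
        rw [Category.assoc, hf₁, hf₂, Category.id_comp])
      inv_hom_id := (cancel_mono iT).mp (by rw [Category.assoc, hf₂, hf₁, Category.id_comp]) }
  -- group structure
  let F := Over.pullback z
  have he' : e.inv ≫ F.map i₀ = iT := hf₁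
  obtain ⟨gT₀, hi₀h⟩ := Groth.Agent.H19Grp.exists_grpObj_of_closed i₀
    (H20Borel.exists_factor_of_bc z i₀ 1 ((1 : F.obj (𝟙_ _) ⟶ T) ≫ e.inv) (by
      rw [Category.assoc, he', MonObj.one_comp, Functor.map_one]))
    (fun X a b => H20Borel.exists_factor_of_bc z i₀ _
      (((F.map a ≫ e.hom) * (F.map b ≫ e.hom)) ≫ e.inv) (by
        rw [Category.assoc, he', MonObj.mul_comp, Category.assoc, Category.assoc, Functor.map_mul]
        exact congrArg₂ (· * ·) ((congrArg (F.map a ≫ ·) hf₂).trans (F.map_comp a i₀).symm)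
          ((congrArg (F.map b ≫ ·) hf₂).trans (F.map_comp b i₀).symm)))
    (fun X a => H20Borel.exists_factor_of_bc z i₀ _ ((F.map a ≫ e.hom)⁻¹ ≫ e.inv) (by
        rw [Category.assoc, he', GrpObj.inv_comp, Category.assoc, Functor.map_inv']
        exact congrArg Inv.inv ((congrArg (F.map a ≫ ·) hf₂).trans (F.map_comp a i₀).symm)))
  letI := gT₀
  haveI := hi₀h
  haveI : IsMonHom (F.map i₀) := H21Diag.isMonHom_bcMap z i₀
  refine ⟨T₀, gT₀, i₀, e, hi₀h, hci, ⟨?_, ?_⟩, hf₂⟩
  · rw [← cancel_mono iT, Category.assoc, IsMonHom.one_hom iT]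
    exact (congrArg (η[F.obj T₀] ≫ ·) hf₂).trans (IsMonHom.one_hom (F.map i₀))
  · rw [← cancel_mono iT, Category.assoc, Category.assoc, IsMonHom.mul_hom iT]
    have h1 : (e.hom ⊗ₘ e.hom) ≫ (iT ⊗ₘ iT) = F.map i₀ ⊗ₘ F.map i₀ :=
      (tensorHom_comp_tensorHom e.hom e.hom iT iT).trans (congrArg₂ (· ⊗ₘ ·) hf₂ hf₂)
    refine Eq.trans ?_ ((congrArg (· ≫ μ[bcK K G]) h1.symm).trans (Category.assoc _ _ _))
    exact (congrArg (μ[F.obj T₀] ≫ ·) hf₂).trans (IsMonHom.mul_hom (F.map i₀))

end Descent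

end Groth.Agent.H19Fin
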