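import Groth.Agent.H19Fin.Descent
import Groth.Agent.H14Count.Lang
import Groth.Agent.H21Diag.MaxTorusBc
import Groth.Agent.H21Diag.CentralMaxTorus
import Groth.Agent.H21Split.Red0.IsoBase
import Groth.Agent.H19Borel.Basic

/-!
# Maximal tori of smooth connected affine groups over finite fields
-/

set_option autoImplicit false
set_option linter.style.haveILetI false
set_option linter.unusedSectionVars false
set_option backward.isDefEq.respectTransparency false
set_option maxHeartbeats 1000000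
set_option synthInstance.maxHeartbeats 200000

universe u

open CategoryTheory CategoryTheory.Limits MonoidalCategory CartesianMonoidalCategory MonObj AlgebraicGeometry GalTw
open Groth.Agent.H27Witt Groth.Agent.H14Count Groth.Agent.H21Diag

noncomputable section

namespace Groth.Agent.H19Fin

attribute [local instance 2000] Hom.group Hom.monoid

section Iso

/-- Being a torus only depends on the group up to isomorphism. -/
theorem isTorus_of_iso {S : Scheme.{u}} {A B : Over S} [GrpObj A] [GrpObj B] (φ : A ≅ B) [IsMonHom φ.hom]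
    (hB : Red.IsTorus B) : Red.IsTorus A := by
  obtain ⟨S', f, hf, hs, hqc, hsplit⟩ := hB
  refine ⟨S', f, hf, hs, hqc, fun s' => ?_⟩
  obtain ⟨U, hU, r, ⟨e⟩⟩ := hsplit s'
  exact ⟨U, hU, r, ⟨bcMapIso (U.ι ≫ f) (Grp.mkIso' φ) ≪≫ e⟩⟩

/-- An isomorphism of the ambient group carries maximal tori to maximal tori. -/
theorem isMaxTorus_comp_iso {k : Type u} [Field k] {T G G' : Over (Sk k)} [GrpObj T] [GrpObj G] [GrpObj G']
    {i : T ⟶ G} (hi : AGF.IsMaxTorus i) (φ : G ≅ G') [IsMonHom φ.hom] : AGF.IsMaxTorus (i ≫ φ.hom) := by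
  obtain ⟨hm, hmo, hT, hmax⟩ := hi
  haveI := hm; haveI := hmo
  refine ⟨inferInstance, inferInstance, hT, fun T' _ j _ _ f hT' hf => ?_⟩
  exact hmax T' (j ≫ φ.inv) f hT' (by rw [← Category.assoc, hf, Category.assoc, φ.hom_inv_id, Category.comp_id])

end Iso

section Twist

variable {k : Type u} [Field k] {K : Type u} [Field K] [Algebra k K] [IsAlgClosed K]
  (G : Over (Sk k)) [GrpObj G] [IsAffine G.left] [Smooth G.hom]

theorem comp_mem_comap {T : Over (Sk K)} [GrpObj T] {r : ℕ} (e : Fin r → (Red.Gm (Sk K) ⟶ T))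
    (co : Fin r → (T ⟶ Red.Gm (Sk K))) (hprod : (List.ofFn fun i => co i ≫ e i).prod = 𝟙 T)
    {H : Over (Sk K)} [GrpObj H] (j : T ⟶ H) [IsMonHom j] (a : 𝟙_ (Over (Sk K)) ⟶ H)
    (R : Subgroup (𝟙_ (Over (Sk K)) ⟶ H)) (h : ∀ i u, a * ((u ≫ e i) ≫ j) * a⁻¹ ∈ R) (t : 𝟙_ (Over (Sk K)) ⟶ T) :
    a * (t ≫ j) * a⁻¹ ∈ R :=
  H20Borel.comp_mem_of_cochars j e co hprod (R.comap (MulAut.conj a).toMonoidHom) h t

/-- **The conjugates of a maximal torus by an automorphism of `K/k` are conjugate.** -/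
theorem exists_galois_conj (σ : K ≃ₐ[k] K) {T : Over (Sk K)} [GrpObj T] (iT : T ⟶ bcK K G)
    (hT : AGF.IsMaxTorus iT) :
    ∃ g : SGA7.Pts K G, ∀ t : 𝟙_ (Over (Sk K)) ⟶ T, ∃ t',
      σ • secPt (t' ≫ iT) = g * secPt (t ≫ iT) * g⁻¹ := by
  let z := (SGA7.pt (K := k) K).hom
  haveI : IsAffine (bcK K G).left := H20Borel.isAffine_bc z G
  haveI : Smooth (bcK K G).hom := H20Borel.smooth_bc z G
  haveI := hT.1
  haveI := hT.2.1
  let s := specMap K σ⁻¹
  let ψ := H21Red0.bcTrans s z z (specMap_comp_pt σ⁻¹) G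
  haveI : IsMonHom ψ.hom := H21Red0.isMonHom_bcTrans s z z (specMap_comp_pt σ⁻¹) G
  let W : Over (Sk K) := Red.bc s T
  let jW : W ⟶ bcK K G := (Over.pullback s).map iT ≫ ψ.hom
  haveI : IsMonHom ((Over.pullback s).map iT) := H21Diag.isMonHom_bcMap s iT
  haveI : IsMonHom jW := inferInstanceAs (IsMonHom (_ ≫ _))
  obtain ⟨r, e, co, he, -, hprod, hcomm⟩ := H20Conj.exists_cochars W (H21Diag.isTorus_bc hT.2.2.1 s)
  haveI : ∀ i, IsMonHom (e i ≫ jW) := fun i => haveI := he i; inferInstance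
  obtain ⟨a, ha⟩ := H20Conj.exists_conj_factor hT (fun i => e i ≫ jW) fun i j u v => by
    rw [← Category.assoc u (e i) jW, ← Category.assoc v (e j) jW, Commute, SemiconjBy, ← MonObj.mul_comp,
      ← MonObj.mul_comp, hcomm]
  have hmem : ∀ w : 𝟙_ (Over (Sk K)) ⟶ W, a * (w ≫ jW) * a⁻¹ ∈ (H20Borel.postHom iT).range :=
    comp_mem_comap e co hprod jW a _ fun i u => by
      obtain ⟨d, hd⟩ := ha i
      refine ⟨u ≫ d, ?_⟩
      change (u ≫ d) ≫ iT = _
      rw [Category.assoc, hd, H20Conj.comp_conjBy, AGF.conjBy,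
        toUnit_unique (toUnit (𝟙_ (Over (Sk K)))) (𝟙 _), Category.id_comp, Category.assoc]
  refine ⟨σ • secPt a, fun t => ?_⟩
  let w : 𝟙_ (Over (Sk K)) ⟶ W := Over.homMk (pullback.lift (s ≫ t.left) (𝟙 _) (by
      rw [Category.assoc, Category.id_comp]
      exact (congrArg (s ≫ ·) (Over.w t)).trans (Category.comp_id _)))
    (pullback.lift_snd _ _ _)
  obtain ⟨t', ht'⟩ := hmem w
  refine ⟨t', ?_⟩
  have hw : secPt (w ≫ jW) = σ⁻¹ • secPt (t ≫ iT) := by
    ext : 1
    change (w.left ≫ ((Over.pullback s).map iT).left ≫ ψ.hom.left) ≫ pullback.fst G.hom z =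
      s ≫ (t.left ≫ iT.left) ≫ pullback.fst G.hom z
    rw [Category.assoc, Category.assoc, H21Red0.bcTrans_fst]
    have h1 : ((Over.pullback s).map iT).left ≫ pullback.fst (pullback.snd G.hom z) s =
        pullback.fst T.hom s ≫ iT.left := pullback.lift_fst _ _ _
    rw [← Category.assoc ((Over.pullback s).map iT).left]
    erw [h1]
    simp only [← Category.assoc]
    erw [pullback.lift_fst]
  have h2 : secPt (t' ≫ iT) = secPt a * secPt (w ≫ jW) * (secPt a)⁻¹ := by
    have h := congrArg (secPtHom (K := K) G) ht'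
    rw [map_mul, map_mul, _root_.map_inv] at h
    exact h
  rw [h2, smul_mul', smul_mul', smul_inv', hw, smul_inv_smul]

end Twist

section Finite

variable (k : Type u) [Field k] [Finite k]

/-- The Frobenius of an algebraic closure of a finite field. -/
def frob : AlgebraicClosure k ≃ₐ[k] AlgebraicClosure k :=
  letI := Fintype.ofFinite k
  FiniteField.frobeniusAlgEquivOfAlgebraic k (AlgebraicClosure k)

theorem frob_fix (c : AlgebraicClosure k) (h : frob k c = c) :
    c ∈ Set.range (algebraMap k (AlgebraicClosure k)) :=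
  mem_range_of_pow_eq (by
    letI := Fintype.ofFinite k
    rw [Nat.card_eq_fintype_card]
    exact h)

/-- Lang: `g = (π h)⁻¹ h` has a solution. -/
theorem exists_lang' (G : Over (Sk k)) [GrpObj G] [IsAffine G.left] [Smooth G.hom] [ConnectedSpace G.left]
    (g : SGA7.Pts (AlgebraicClosure k) G) :
    ∃ h : SGA7.Pts (AlgebraicClosure k) G, (frob k • h)⁻¹ * h = g := by
  haveI : IsAffineHom G.hom := inferInstance
  obtain ⟨h, hh⟩ := exists_lang (G := G) g⁻¹
  refine ⟨h⁻¹, ?_⟩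
  rw [smul_inv', _root_.inv_inv]
  have h1 : h * (frob k • h)⁻¹ = g⁻¹ := hh
  rw [← _root_.inv_inv g, ← h1, _root_.mul_inv_rev, _root_.inv_inv]

/-- A point conjugated into a stable position. -/
theorem exists_stable_conj (G : Over (Sk k)) [GrpObj G] [IsAffine G.left] [Smooth G.hom] [ConnectedSpace G.left]
    {T : Over (Sk (AlgebraicClosure k))} (iT : T ⟶ bcK (AlgebraicClosure k) G) (g : SGA7.Pts (AlgebraicClosure k) G)
    (hg : ∀ t : 𝟙_ (Over (Sk (AlgebraicClosure k))) ⟶ T, ∃ t',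
      frob k • secPt (t' ≫ iT) = g * secPt (t ≫ iT) * g⁻¹) :
    ∀ h : SGA7.Pts (AlgebraicClosure k) G, (frob k • h)⁻¹ * h = g →
      ∀ t : 𝟙_ (Over (Sk (AlgebraicClosure k))) ⟶ T, ∃ t',
        frob k • secPt (t' ≫ AGF.conjBy (secOfPt (AlgebraicClosure k) h) iT) =
          secPt (t ≫ AGF.conjBy (secOfPt (AlgebraicClosure k) h) iT) := by
  intro h hh t
  have hsec : ∀ u : 𝟙_ (Over (Sk (AlgebraicClosure k))) ⟶ T,
      secPt (u ≫ AGF.conjBy (secOfPt (AlgebraicClosure k) h) iT) = h * secPt (u ≫ iT) * h⁻¹ := fun u => by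
    rw [H20Conj.comp_conjBy, AGF.conjBy, toUnit_unique (toUnit (𝟙_ (Over (Sk (AlgebraicClosure k))))) (𝟙 _),
      Category.id_comp]
    change secPtHom (K := AlgebraicClosure k) G _ = _
    rw [map_mul, map_mul, _root_.map_inv, secPtHom_apply, secPtHom_apply, secPt_secOfPt]
  obtain ⟨t', ht'⟩ := hg t
  refine ⟨t', ?_⟩
  rw [hsec, hsec, smul_mul', smul_mul', smul_inv', ht', ← hh]
  group

/-- **A smooth connected affine group over a finite field has a maximal torus.** -/
theorem exists_maximalTorus (G : Over (Sk k)) [GrpObj G] [IsAffine G.left] [Smooth G.hom] [ConnectedSpace G.left] :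
    ∃ (T : Over (Sk k)) (_ : GrpObj T) (iT : T ⟶ G), Red.IsMaximalTorus iT ∧ IsClosedImmersion iT.left := by
  let K := AlgebraicClosure k
  let z := (SGA7.pt (K := k) K).hom
  haveI : IsAffine (bcK K G).left := H20Borel.isAffine_bc z G
  haveI : Smooth (bcK K G).hom := H20Borel.smooth_bc z G
  haveI : LocallyOfFiniteType G.hom := inferInstance
  obtain ⟨T, gT, iT, hiT, hci, hT, hmax⟩ := H20Borel.exists_maxTorus (G := bcK K G)
  letI := gT; haveI := hiT; haveI := hci
  have hTm := H20Borel.isMaxTorus_of_hmax iT hT hmax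
  obtain ⟨g, hg⟩ := exists_galois_conj G (frob k) iT hTm
  obtain ⟨h, hh⟩ := exists_lang' k G g
  let a := secOfPt K h
  let κ := H20Mu.conj a⁻¹
  haveI := Groth.Agent.H19Borel.isMonHom_conjBy a iT
  haveI : Mono iT := hTm.2.1
  haveI := Groth.Agent.H19Borel.mono_conjBy a iT
  haveI : IsIso κ := H20Borel.isIso_conj a⁻¹
  have hm' : AGF.IsMaxTorus (AGF.conjBy a iT) := by
    rw [Groth.Agent.H19Borel.conjBy_eq]
    exact isMaxTorus_comp_iso hTm (asIso κ)
  haveI : IsClosedImmersion (AGF.conjBy a iT).left := H20Borel.isClosedImmersion_torus _ hT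
  haveI : AlgebraicGeometry.IsReduced T.left := by
    haveI := (H20Borel.torus_props T hT).2.1
    exact Groth.Agent.H13AlgSp.isReduced_of_smooth_mor T.hom
  obtain ⟨T₀, gT₀, i₀, e, hi₀, hci₀, he, hei⟩ :=
    exists_descent G (frob k) (frob_fix k) (AGF.conjBy a iT) (exists_stable_conj k G iT g hg h hh)
  letI := gT₀; haveI := hi₀; haveI := hci₀; haveI := he
  haveI : Mono i₀ := Over.mono_of_mono_left _
  have hbT : Red.IsTorus (bcK K T₀) := isTorus_of_iso e hT
  haveI hzs : Surjective z := ⟨fun _ => ⟨IsLocalRing.closedPoint K, Subsingleton.elim (α := PrimeSpectrum k) _ _⟩⟩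
  have hT₀ : Red.IsTorus T₀ := by
    obtain ⟨S', f, hf, hs, hqc, hsplit⟩ := hbT
    haveI : Flat z := (H20Borel.flat_surjective_point z).1
    refine ⟨S', f ≫ z, inferInstance, inferInstance, fun V hV => ?_, fun s' => ?_⟩
    · obtain ⟨W, hW, himg⟩ := hqc (z ⁻¹ᵁ V) (hV.preimage _)
      refine ⟨W, hW, ?_⟩
      rw [Scheme.Hom.comp_base, TopCat.coe_comp, Set.image_comp, himg]
      exact Set.image_preimage_eq _ z.surjective
    · obtain ⟨U, hU, r, ⟨eU⟩⟩ := hsplit s'
      exact ⟨U, hU, r, ⟨bcCongrIso (Category.assoc _ _ _).symm T₀ ≪≫ bcCompIso (U.ι ≫ f) z T₀ ≪≫ eU⟩⟩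
  refine ⟨T₀, gT₀, i₀, H21Diag.isMaximalTorus_of_bc i₀ hT₀ z hzs ?_, hci₀⟩
  have hmx : Red.IsMaximalTorus (AGF.conjBy a iT) :=
    H21Red0.isMaximalTorus_of_maximal _ hT hm'.2.2.2
  have h1 := H21Diag.isMaximalTorus_precomp_iso e hbT hmx
  rw [hei] at h1
  exact h1

end Finite

end Groth.Agent.H19Fin
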